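import Groth.Agent.Fga.Torsor
import Groth.Agent.Fdesc.LocGen
import Groth.Prelude.Def_Coh

/-!
# `H¹(Y, O_Y) = 0` and Čech cocycles

If `H¹(Y, O_Y) = 0` then every Čech `1`-cocycle of functions on an open cover is a coboundary.
-/

set_option autoImplicit false
universe u

open AlgebraicGeometry CategoryTheory Limits Opposite TopologicalSpace

namespace Groth.Agent.Etdl.H429.CechH1

open Groth.Agent.Fga.Torsor Groth.Agent.Fdesc.LocGen

variable {Y : Scheme.{u}}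

/-- the presheaf `W ↦ {i // W ≤ V i}` -/
def idx {ι : Type u} (V : ι → Y.Opens) : (Opens Y)ᵒᵖ ⥤ Type u where
  obj W := {i : ι // W.unop ≤ V i}
  map f := TypeCat.ofHom fun i => ⟨i.1, (leOfHom f.unop).trans i.2⟩

theorem exists_cob (h : Subsingleton (Coh.HH Y (Coh.structureModule Y) 1)) {ι : Type u}
    (V : ι → Y.Opens) (hV : ⨆ i, V i = ⊤) (c : ∀ i j, Γ(Y, V i ⊓ V j))
    (hc : ∀ i j k (W : Y.Opens) (hi : W ≤ V i) (hj : W ≤ V j) (hk : W ≤ V k),
      ores (le_inf hi hj) (c i j) + ores (le_inf hj hk) (c j k) = ores (le_inf hi hk) (c i k)) :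
    ∃ b : ∀ i, Γ(Y, V i), ∀ i j, c i j =
      ores (inf_le_left : V i ⊓ V j ≤ V i) (b i) - ores (inf_le_right : V i ⊓ V j ≤ V j) (b j) := by
  let D : Diff (idx V) (Coh.toAb (Coh.structureModule Y)).obj :=
    { d := fun {W} i j => (ores (le_inf i.2 j.2) (c i.1 j.1) : Γ(Y, W.unop))
      d_add := fun {W} i j k => hc i.1 j.1 k.1 W.unop i.2 j.2 k.2
      map_d := fun {W W'} f i j => by
        exact ores_ores (le_inf i.2 j.2) (leOfHom f.unop) (c i.1 j.1) }
  have hT : LocNonempty (Opens.grothendieckTopology Y) (idx V) (⊤ : Opens Y) := by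
    refine ⟨{ arrows := fun W _ => Nonempty ((idx V).obj (op W))
              downward_closed := fun {W W' f} hf g => hf.map fun t => (idx V).map g.op t }, ?_,
      fun W f hf => hf⟩
    intro x _
    obtain ⟨i, hi⟩ := Opens.mem_iSup.mp (hV.ge (show x ∈ (⊤ : Y.Opens) from trivial))
    exact ⟨V i, homOfLE le_top, ⟨i, le_rfl⟩, hi⟩
  obtain ⟨P⟩ := D.exists_potential_of_H1 isTerminalTop _ h hT
  refine ⟨fun i => (P.φ (U := op (V i)) ⟨i, le_rfl⟩ : Γ(Y, V i)), fun i j => ?_⟩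
  have h1 := P.sub_φ (U := op (V i ⊓ V j)) ⟨i, inf_le_left⟩ ⟨j, inf_le_right⟩
  have h2 := P.map_φ (homOfLE (inf_le_left : V i ⊓ V j ≤ V i)).op ⟨i, le_rfl⟩
  have h3 := P.map_φ (homOfLE (inf_le_right : V i ⊓ V j ≤ V j)).op ⟨j, le_rfl⟩
  have h4 : D.d (U := op (V i ⊓ V j)) ⟨i, inf_le_left⟩ ⟨j, inf_le_right⟩ = c i j := ores_refl _
  rw [← h4, ← h1]
  exact congrArg₂ (fun a b : Γ(Y, V i ⊓ V j) => a - b) h2.symm h3.symm

end Groth.Agent.Etdl.H429.CechH1
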