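import Groth.Agent.Etdl.H429.PicProd
import Groth.Agent.Ega2.WeightPull
import Groth.Agent.Ega2.AmpleAff
import Groth.Agent.Sga5.AmpleFib
import Groth.Agent.S1841
import Mathlib.CategoryTheory.Monoidal.Cartesian.Grp
import Mathlib.AlgebraicGeometry.Noetherian

/-!
# Morphisms from a proper scheme with `H⁰(O) = k`, `H¹(O) = 0` to a group scheme of finite type
over an algebraically closed field are constant
-/

set_option autoImplicit false
universe u

open CategoryTheory Limits MonoidalCategory CartesianMonoidalCategory AlgebraicGeometry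
open scoped MonObj
open Groth.Agent.Grpsch.PicGrp Groth.Agent.Grpsch.CubeData Groth.Agent.Etdl.H429.Univ
  Groth.Agent.Etdl.H429.PicConn Groth.Agent.Fdesc.LocGen

namespace Groth.Agent.Etdl.H429.FieldCase

/-- A scheme whose global functions form a field is preconnected. -/
theorem preconnectedSpace_of_isField {X : Scheme.{u}} (h : IsField Γ(X, ⊤)) :
    PreconnectedSpace X := by
  rw [preconnectedSpace_iff_clopen]
  intro s hs
  let W : Bool → X.Opens := fun b => Bool.rec ⟨sᶜ, hs.1.isOpen_compl⟩ ⟨s, hs.2⟩ b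
  let e : ∀ b, Γ(X, W b) := fun b => Bool.rec (0 : Γ(X, W false)) (1 : Γ(X, W true)) b
  have hcov : (⊤ : X.Opens) ≤ ⨆ b, W b := by
    intro x _
    rw [TopologicalSpace.Opens.mem_iSup]
    by_cases hx : x ∈ s
    · exact ⟨true, hx⟩
    · exact ⟨false, hx⟩
  have hbot : ∀ b c, b ≠ c → W b ⊓ W c = ⊥ := by
    intro b c hbc
    ext x
    rcases b with _ | _ <;> rcases c with _ | _
    · exact absurd rfl hbc
    · exact ⟨fun hx => hx.1 hx.2, fun hx => hx.elim⟩
    · exact ⟨fun hx => hx.2 hx.1, fun hx => hx.elim⟩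
    · exact absurd rfl hbc
  obtain ⟨t, ht⟩ := ores_glue W (fun _ => le_top) hcov e (by
    intro b c
    by_cases hbc : b = c
    · subst hbc; rfl
    · have h1 : Subsingleton Γ(X, W b ⊓ W c) := by
        rw [hbot b c hbc]; infer_instance
      exact Subsingleton.elim _ _)
  have ht1 : ores (le_top : W true ≤ ⊤) t = 1 := ht true
  have ht0 : ores (le_top : W false ≤ ⊤) t = 0 := ht false
  by_cases h0 : t = 0
  · left
    rw [h0, map_zero] at ht1
    have h2 := congrArg (fun a => X.basicOpen a) ht1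
    rw [X.basicOpen_zero, X.basicOpen_one] at h2
    exact congrArg (fun V : X.Opens => (V : Set X)) h2.symm
  · right
    obtain ⟨u, hu⟩ := h.mul_inv_cancel h0
    have h3 := congrArg (ores (le_top : W false ≤ ⊤)) hu
    rw [map_mul, ht0, zero_mul, map_one] at h3
    have h2 := congrArg (fun a => X.basicOpen a) h3
    rw [X.basicOpen_zero, X.basicOpen_one] at h2
    have h4 : sᶜ = (∅ : Set X) := congrArg (fun V : X.Opens => (V : Set X)) h2.symm
    exact Set.compl_empty_iff.mp h4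

/-- A morphism along which an ample module becomes trivial has image in an affine open, if the
global functions on the source form a field. -/
theorem exists_affine {X G : Scheme.{u}} (f : X ⟶ G) (hF : IsField Γ(X, ⊤)) (x : X)
    {M : G.Modules} (hM : CohB1.IsAmple M) (h : Triv ((Scheme.Modules.pullback f).obj M)) :
    ∃ U : G.Opens, IsAffineOpen U ∧ f ⁻¹ᵁ U = ⊤ := by
  obtain ⟨n, s, hx, hs⟩ := hM.2.2 (f x)
  have hMn := isInvertible_tensorPow hM.1 (n + 1)
  refine ⟨_, hs, ?_⟩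
  have h1 : Triv ((Scheme.Modules.pullback f).obj (CohB1.tensorPow M (n + 1))) := by
    rw [← pull_eq_one_iff f hMn, mk_tensorPow hM.1, map_pow, (pull_eq_one_iff f hM.1).mpr h, one_pow]
  obtain ⟨e⟩ := h1
  have h2 := Groth.Agent.Ega2.Weight.genLocus_pullHom f hMn s
  have h3 := Groth.Agent.Ega2.Weight.genLocus_comp (Groth.Agent.Ega2.Weight.pullHom f s) e.hom
  rw [← h2, ← h3]
  obtain ⟨c, hc⟩ := (isGen_one (X := X) ⊤).exists_eq
    (sec (Groth.Agent.Ega2.Weight.pullHom f s ≫ e.hom) ⊤)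
  have h4 := genLocus_inf_eq (Groth.Agent.Ega2.Weight.pullHom f s ≫ e.hom) (isGen_one ⊤) hc
  rw [inf_top_eq] at h4
  rw [h4]
  have h5 : x ∈ X.basicOpen c := by
    rw [← h4, h3, h2]
    exact hx
  have h6 : c ≠ 0 := by
    rintro rfl
    rw [X.basicOpen_zero] at h5
    exact h5
  obtain ⟨d, hd⟩ := hF.mul_inv_cancel h6
  exact X.basicOpen_of_isUnit (IsUnit.of_mul_eq_one d hd)

/-- Factorisation through `Spec` of the global functions. -/
theorem eq_comp_of_affine {X G B : Scheme.{u}} (f : X ⟶ G) (U : G.Opens) (hU : IsAffineOpen U)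
    (hf : f ⁻¹ᵁ U = ⊤) (h : X ⟶ B) [IsAffine B] (hh : IsIso h.appTop) :
    ∃ c : B ⟶ G, f = h ≫ c := by
  have : IsAffine U.toScheme := hU
  have hr : Set.range f ⊆ Set.range U.ι := by
    rw [Scheme.Opens.range_ι]
    rintro _ ⟨x, rfl⟩
    have : x ∈ f ⁻¹ᵁ U := by rw [hf]; trivial
    exact this
  let g : X ⟶ U.toScheme := IsOpenImmersion.lift U.ι f hr
  have hg : g ≫ U.ι = f := IsOpenImmersion.lift_fac _ _ _
  have h1 := Scheme.toSpecΓ_naturality g
  have h2 := Scheme.toSpecΓ_naturality h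
  have h3 : X.toSpecΓ = h ≫ B.toSpecΓ ≫ inv (Spec.map h.appTop) := by
    rw [← Category.assoc, h2, Category.assoc, IsIso.hom_inv_id, Category.comp_id]
  refine ⟨B.toSpecΓ ≫ inv (Spec.map h.appTop) ≫ Spec.map g.appTop ≫ inv U.toScheme.toSpecΓ ≫ U.ι, ?_⟩
  have h4 : g = X.toSpecΓ ≫ Spec.map g.appTop ≫ inv U.toScheme.toSpecΓ := by
    rw [← Category.assoc, ← h1, Category.assoc, IsIso.hom_inv_id, Category.comp_id]
  rw [← hg]
  conv_lhs => rw [h4, h3]
  simp only [Category.assoc]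

variable {K : Type u} [Field K]

lemma isIso_left {A B : Over (Spec (CommRingCat.of K))} (f : A ⟶ B) [IsIso f] : IsIso f.left :=
  inferInstanceAs (IsIso ((Over.forget _).map f))

lemma isIso_inv_left (A : Over (Spec (CommRingCat.of K))) [GrpObj A] :
    IsIso ((𝟙 A)⁻¹ : A ⟶ A).left := by
  have h : ((𝟙 A)⁻¹ : A ⟶ A) = ι[A] := by rw [Hom.inv_def, Category.id_comp]
  rw [h]
  exact isIso_left _

variable [IsAlgClosed K]

/-- **The main case**: over an algebraically closed field. -/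
theorem exists_const (X G : Over (Spec (CommRingCat.of K))) [IsProper X.hom] [GrpObj G]
    [LocallyOfFiniteType G.hom] [QuasiCompact G.hom] (hO : UnivO X.hom) (hH : FibH1 X.hom)
    (ψ : X ⟶ G) : ∃ c : 𝟙_ (Over (Spec (CommRingCat.of K))) ⟶ G, ψ = toUnit X ≫ c := by
  have hlfp : LocallyOfFinitePresentation X.hom :=
    LocallyOfFinitePresentation.iff_locallyOfFiniteType.mpr inferInstance
  have htop : IsIso X.hom.appTop := hO.app ⊤
  have hF : IsField Γ(X.left, ⊤) := by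
    have e1 : Γ(Spec (CommRingCat.of K), ⊤) ≃+* Γ(X.left, ⊤) := (asIso X.hom.appTop).commRingCatIsoToRingEquiv
    have e2 : Γ(Spec (CommRingCat.of K), ⊤) ≃+* K :=
      (Scheme.ΓSpecIso (CommRingCat.of K)).commRingCatIsoToRingEquiv
    exact (e1.symm.trans e2).toMulEquiv.isField (Field.toIsField K)
  have hconn := preconnectedSpace_of_isField hF
  have hne : Nonempty X.left := by
    by_contra hemp
    rw [not_nonempty_iff] at hemp
    have h1 : Subsingleton Γ(X.left, ⊤) := inferInstance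
    obtain ⟨a, b, hab⟩ := hF.exists_pair_ne
    exact hab (Subsingleton.elim a b)
  obtain ⟨x₀, -⟩ := exists_point_of_nonempty X ⊤ Set.univ_nonempty
  obtain ⟨L, hL⟩ := Groth.Agent.S1841.result K G
  let ψ' : X ⟶ G := ψ * (toUnit X ≫ x₀ ≫ ψ)⁻¹
  let a : X ⊗ X ⟶ G := (fst X X ≫ ψ) * (snd X X ≫ ψ)⁻¹
  have hα : α X X x₀ ≫ a = ψ' := by
    rw [MonObj.comp_mul, GrpObj.comp_inv, ← Category.assoc, ← Category.assoc, lift_fst, lift_snd, Category.id_comp,
      Category.assoc]
  have hβ : β X X x₀ ≫ a = ψ'⁻¹ := by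
    rw [MonObj.comp_mul, GrpObj.comp_inv, ← Category.assoc, ← Category.assoc, lift_fst, lift_snd, Category.id_comp,
      Category.assoc, mul_inv_rev, inv_inv]
  have hδ : lift (𝟙 X) (𝟙 X) ≫ a = 1 := by
    rw [MonObj.comp_mul, GrpObj.comp_inv, ← Category.assoc, ← Category.assoc, lift_fst, lift_snd, Category.id_comp,
      mul_inv_cancel]
  have key := eq_mul X X hO hH x₀ x₀ (pl a (mk L hL.1))
  have h1 : pl (lift (𝟙 X) (𝟙 X)) (pl a (mk L hL.1)) = 1 := by
    rw [← pl_comp, hδ]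
    exact pl_const η[G] _
  rw [key, map_mul, ← pl_comp (lift (𝟙 X) (𝟙 X)), ← pl_comp (lift (𝟙 X) (𝟙 X)), lift_fst, lift_snd,
    pl_id, pl_id, ← pl_comp (α X X x₀), ← pl_comp (β X X x₀), hα, hβ] at h1
  have h2 : (ψ'⁻¹ : X ⟶ G) = ψ' ≫ (𝟙 G)⁻¹ := by
    rw [GrpObj.comp_inv, Category.comp_id]
  rw [h2, pl_comp, ← map_mul] at h1
  have := isIso_inv_left G
  have hL2 : CohB1.IsAmple ((Scheme.Modules.pullback ((𝟙 G)⁻¹ : G ⟶ G).left).obj L) :=
    Groth.Agent.Sga5.AmpleFib.isAmple_pullback _ hL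
  have hM : CohB1.IsAmple (CohB1.tensorMod L
      ((Scheme.Modules.pullback ((𝟙 G)⁻¹ : G ⟶ G).left).obj L)) :=
    Groth.Agent.Ega2.Weight.isAmple_tensorMod hL hL2.1 fun x ↦ by
      obtain ⟨m, s, hs, -⟩ := hL2.2.2 x
      exact ⟨m, s, hs⟩
  have h3 : Triv ((Scheme.Modules.pullback ψ'.left).obj (CohB1.tensorMod L
      ((Scheme.Modules.pullback ((𝟙 G)⁻¹ : G ⟶ G).left).obj L))) :=
    (pull_eq_one_iff ψ'.left hM.1).mp h1
  obtain ⟨x⟩ := hne
  obtain ⟨U, hU, hU'⟩ := exists_affine ψ'.left hF x hM h3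
  obtain ⟨c, hc⟩ := eq_comp_of_affine ψ'.left U hU hU' X.hom htop
  have h4 : ψ' = toUnit X ≫ x₀ ≫ ψ' := by
    ext1
    have h5 : x₀.left ≫ X.hom = 𝟙 _ := Over.w x₀
    have h6 : (toUnit X ≫ x₀ ≫ ψ').left = X.hom ≫ x₀.left ≫ ψ'.left := rfl
    rw [h6, hc, reassoc_of% h5]
  refine ⟨(x₀ ≫ ψ') * (x₀ ≫ ψ), ?_⟩
  rw [MonObj.comp_mul, ← h4]
  exact (inv_mul_cancel_right ψ _).symm

end Groth.Agent.Etdl.H429.FieldCase
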