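import Groth.Agent.Etdl.H429.Small
import Groth.Agent.Grpsch.CubeOpen2
import Groth.Agent.Grpsch.CubeSmall
import Groth.Agent.Grpsch.PicGrp
import Groth.Agent.S1431

/-!
# The locus where a rigidified invertible module is trivial is open if `H¹(O) = 0` on fibres
-/

set_option autoImplicit false
universe u v

open AlgebraicGeometry CategoryTheory Limits IsLocalRing
open Groth.Agent.Fdesc Groth.Agent.Fdesc.LocGen

namespace Groth.Agent.Etdl.H429.Locus

open Groth.Agent.Grpsch Groth.Agent.Grpsch.CubeData Groth.Agent.Etdl.H429.Univ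

lemma isFinLocFree_of_isInvertible {Y : Scheme.{u}} {L : Y.Modules} (hL : PicF.IsInvertible L) :
    FlatMod.IsFinLocFree L := by
  intro x
  obtain ⟨U, hx, ⟨e⟩⟩ := hL x
  exact ⟨U, 1, hx, ⟨e ≪≫ (coproductUniqueIso
    (fun _ : Fin 1 => Coh.structureModule (U : Scheme.{u}))).symm⟩⟩

lemma mem_ker_appTop_specMap {A B : CommRingCat.{u}} (φ : A ⟶ B) (x : Γ(Spec A, ⊤)) :
    x ∈ RingHom.ker (Spec.map φ).appTop.hom ↔ (Scheme.ΓSpecIso A).hom.hom x ∈ RingHom.ker φ.hom := by
  have h1 := Scheme.ΓSpecIso_naturality φ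
  rw [RingHom.mem_ker, RingHom.mem_ker]
  have h2 : (Scheme.ΓSpecIso B).hom.hom ((Spec.map φ).appTop.hom x) =
      φ.hom ((Scheme.ΓSpecIso A).hom.hom x) := congr(($h1).hom x)
  rw [← h2]
  have hb : Function.Bijective (Scheme.ΓSpecIso B).hom.hom :=
    ConcreteCategory.bijective_of_isIso (Scheme.ΓSpecIso B).hom
  exact (map_eq_zero_iff _ hb.1).symm

lemma exists_inv_eq (A : CommRingCat.{u}) (a : Γ(Spec A, ⊤)) :
    ∃ b, (Scheme.ΓSpecIso A).inv.hom b = a :=
  ⟨(Scheme.ΓSpecIso A).hom.hom a, congr(($((Scheme.ΓSpecIso A).hom_inv_id)).hom a)⟩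

lemma hom_inv (A : CommRingCat.{u}) (b : A) :
    (Scheme.ΓSpecIso A).hom.hom ((Scheme.ΓSpecIso A).inv.hom b) = b :=
  congr(($((Scheme.ΓSpecIso A).inv_hom_id)).hom b)

/-- Lifting triviality along `Spec B ⟶ Spec A`, `B = A / (t)` with `𝔪 t = 0`, `t ≠ 0`. -/
lemma triv_of_small_spec {A B : CommRingCat.{u}} [IsLocalRing A] (φ : A ⟶ B)
    (hφ : Function.Surjective φ.hom) (t : A) (ht : t ≠ 0) (htm : t ∈ maximalIdeal A)
    (hmt : ∀ a ∈ maximalIdeal A, a * t = 0) (hker : RingHom.ker φ.hom = Ideal.span {t})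
    {P : Scheme.{u}} (p : P ⟶ Spec A) [Flat p] [IsSeparated p] (hp : FibH1 p) (L : P.Modules)
    (hL : PicF.IsInvertible L)
    (hS' : Triv ((Scheme.Modules.pullback (pullback.fst p (Spec.map φ))).obj L)) :
    Triv L := by
  have hci : IsClosedImmersion (Spec.map φ) := IsClosedImmersion.spec_of_surjective φ hφ
  have hsurj : Surjective (Spec.map φ) := by
    have h1 : ∀ x : PrimeSpectrum A, x ∈ Set.range (PrimeSpectrum.comap φ.hom) := by
      intro x
      rw [range_comap_of_surjective _ _ hφ, hker, PrimeSpectrum.mem_zeroLocus,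
        SetLike.coe_subset_coe, Ideal.span_singleton_le_iff_mem]
      exact x.isPrime.mem_of_pow_mem 2 (by rw [pow_two, hmt t htm]; exact zero_mem _)
    exact ⟨h1⟩
  let κ : CommRingCat.{u} := CommRingCat.of (ResidueField A)
  let ρ : A ⟶ κ := CommRingCat.ofHom (residue A)
  have hρ : IsClosedImmersion (Spec.map ρ) :=
    IsClosedImmersion.spec_of_surjective ρ residue_surjective
  have hk : RingHom.ker (Spec.map ρ).appTop.hom = maximalIdeal Γ(Spec A, ⊤) := by
    ext a
    obtain ⟨b, rfl⟩ := exists_inv_eq A a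
    rw [mem_ker_appTop_specMap, hom_inv, mem_maximalIdeal_ΓSpec]
    change b ∈ RingHom.ker (residue A) ↔ _
    rw [ker_residue]
  obtain ⟨Z, j, z, HZ, hZ⟩ := hp κ (Field.toIsField (ResidueField A)) (Spec.map ρ)
  refine Small.deform (.of_hasPullback p (Spec.map φ)) ((Scheme.ΓSpecIso A).inv.hom t) ?_ ?_
    (ker_appTop_specMap φ t hker) hk HZ hZ hL hS'
  · intro a
    obtain ⟨a, rfl⟩ := exists_inv_eq A a
    rw [mem_maximalIdeal_ΓSpec, ← map_mul]
    have hb : Function.Bijective (Scheme.ΓSpecIso A).inv.hom :=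
      ConcreteCategory.bijective_of_isIso (Scheme.ΓSpecIso A).inv
    rw [map_eq_zero_iff _ hb.1]
    refine ⟨fun h0 => ?_, hmt a⟩
    by_contra hu
    rw [mem_maximalIdeal, mem_nonunits_iff, not_not] at hu
    exact ht ((hu.mul_right_eq_zero).mp h0)
  · rw [mem_maximalIdeal_ΓSpec]; exact htm

lemma triv_baseChange {P S T T' : Scheme.{u}} (p : P ⟶ S) (a : T ⟶ S) (g : T' ⟶ T) (L : P.Modules)
    (h : Triv ((Scheme.Modules.pullback (pullback.fst p (g ≫ a))).obj L)) :
    Triv ((Scheme.Modules.pullback (pullback.fst (pullback.snd p a) g)).obj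
      ((Scheme.Modules.pullback (pullback.fst p a)).obj L)) := by
  refine triv_square (f := pullback.lift (pullback.fst (pullback.snd p a) g ≫ pullback.fst p a)
    (pullback.snd _ _) ?_) (g := pullback.fst p (g ≫ a)) ?_ L h
  · rw [Category.assoc, pullback.condition, ← Category.assoc, ← Category.assoc,
      pullback.condition (f := pullback.snd p a) (g := g)]
  · exact pullback.lift_fst _ _ _

/-- Lifting triviality along `Spec (O / I₂) ⟶ Spec (O / I₁)`. -/
lemma triv_of_quot {P T : Scheme.{u}} (p : P ⟶ T) [Flat p] [IsSeparated p] (hp : FibH1 p)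
    (L : P.Modules) (hL : PicF.IsInvertible L)
    (O : CommRingCat.{u}) [IsLocalRing O] (b : Spec O ⟶ T) (I₁ : Ideal O) (t : O) (ht : t ∉ I₁)
    (htm : t ∈ maximalIdeal O) (hmt : ∀ a ∈ maximalIdeal O, a * t ∈ I₁)
    (hT : Triv ((Scheme.Modules.pullback (pullback.fst p
      (Spec.map (CommRingCat.ofHom (Ideal.Quotient.mk (I₁ ⊔ Ideal.span {t}))) ≫ b))).obj L)) :
    Triv ((Scheme.Modules.pullback (pullback.fst p
      (Spec.map (CommRingCat.ofHom (Ideal.Quotient.mk I₁)) ≫ b))).obj L) := by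
  have hne : I₁ ≠ ⊤ := fun h0 => ht (h0 ▸ Submodule.mem_top)
  have : Nontrivial (O ⧸ I₁) := Ideal.Quotient.nontrivial_iff.mpr hne
  have hloc : IsLocalRing (CommRingCat.of (O ⧸ I₁)) :=
    IsLocalRing.of_surjective' (Ideal.Quotient.mk I₁) Ideal.Quotient.mk_surjective
  let φ : CommRingCat.of (O ⧸ I₁) ⟶ CommRingCat.of (O ⧸ (I₁ ⊔ Ideal.span {t})) :=
    CommRingCat.ofHom (Ideal.Quotient.factor le_sup_left)
  let a : Spec (CommRingCat.of (O ⧸ I₁)) ⟶ T :=
    Spec.map (CommRingCat.ofHom (Ideal.Quotient.mk I₁)) ≫ b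
  have hφa : Spec.map φ ≫ a =
      Spec.map (CommRingCat.ofHom (Ideal.Quotient.mk (I₁ ⊔ Ideal.span {t}))) ≫ b := by
    rw [← Category.assoc, ← Spec.map_comp]
    rfl
  have hloc' : IsLocalHom (Ideal.Quotient.mk I₁) :=
    IsLocalHom.of_surjective _ Ideal.Quotient.mk_surjective
  refine triv_of_small_spec φ (Ideal.Quotient.factor_surjective le_sup_left)
    (Ideal.Quotient.mk I₁ t) (fun h0 => ht (Ideal.Quotient.eq_zero_iff_mem.mp h0)) ?_ ?_ ?_
    (pullback.snd p a) (hp.baseChange (.of_hasPullback p a))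
    ((Scheme.Modules.pullback (pullback.fst p a)).obj L) (isInvertible_pullback _ hL) ?_
  · exact (mem_maximalIdeal _).mpr fun hu =>
      (mem_maximalIdeal t).mp htm (isUnit_of_map_unit (Ideal.Quotient.mk I₁) t hu)
  · intro c hc
    obtain ⟨c, rfl⟩ := Ideal.Quotient.mk_surjective c
    have h1 : c ∈ maximalIdeal O := (mem_maximalIdeal c).mpr fun hu =>
      (mem_maximalIdeal _).mp hc (hu.map (Ideal.Quotient.mk I₁))
    exact (map_mul (Ideal.Quotient.mk I₁) c t).symm.trans
      (Ideal.Quotient.eq_zero_iff_mem.mpr (hmt c h1))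
  · have h1 : RingHom.ker (Ideal.Quotient.factor (le_sup_left : I₁ ≤ I₁ ⊔ Ideal.span {t})) =
        (I₁ ⊔ Ideal.span {t}).map (Ideal.Quotient.mk I₁) := Ideal.Quotient.factor_ker _
    refine h1.trans ?_
    rw [Ideal.map_sup, Ideal.map_quotient_self, bot_sup_eq, Ideal.map_span, Set.image_singleton]
  · rw [← hφa] at hT
    exact triv_baseChange p a (Spec.map φ) L hT

/-- Triviality after base change from triviality of a pullback of a locally free module. -/
lemma exists_iff_triv {P S T : Scheme.{u}} (p : P ⟶ S) (s : S ⟶ P) (hs : s ≫ p = 𝟙 S) (a : T ⟶ S)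
    (L : P.Modules) (hsL : Triv ((Scheme.Modules.pullback s).obj L)) :
    (∃ N : T.Modules, FlatMod.IsFinLocFree N ∧
      Nonempty ((Scheme.Modules.pullback (pullback.snd p a)).obj N ≅
        (Scheme.Modules.pullback (pullback.fst p a)).obj L)) ↔
      Triv ((Scheme.Modules.pullback (pullback.fst p a)).obj L) := by
  constructor
  · rintro ⟨N, -, ⟨e⟩⟩
    let σ : T ⟶ pullback p a := pullback.lift (a ≫ s) (𝟙 T) (by
      rw [Category.assoc, hs, Category.comp_id, Category.id_comp])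
    have h1 : Triv ((Scheme.Modules.pullback σ).obj
        ((Scheme.Modules.pullback (pullback.fst p a)).obj L)) := by
      refine triv_square (f := a) (g := s) ?_ L hsL
      exact (pullback.lift_fst _ _ _).symm
    have h2 : Triv ((Scheme.Modules.pullback σ).obj
        ((Scheme.Modules.pullback (pullback.snd p a)).obj N)) :=
      h1.of_iso ((Scheme.Modules.pullback σ).mapIso e)
    rw [← triv_comp, triv_congr (pullback.lift_snd _ _ _), triv_id] at h2
    exact (h2.pullback _).of_iso e.symm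
  · rintro ⟨e⟩
    refine ⟨Coh.structureModule T, isFinLocFree_of_isInvertible
      isInvertible_structureModule, ?_⟩
    obtain ⟨i⟩ : Triv ((Scheme.Modules.pullback (pullback.snd p a)).obj
      (Coh.structureModule T)) := Triv.pullback _ ⟨Iso.refl _⟩
    exact ⟨i ≪≫ e.symm⟩

/-- The locus where a rigidified invertible module is trivial is open if `H¹(O) = 0` on
the fibres. -/
theorem exists_open {P T : Scheme.{u}} (p : P ⟶ T) [Flat p] [IsProper p]
    [LocallyOfFinitePresentation p] (hO : UnivO p) (hH : FibH1 p) (s : T ⟶ P) (hs : s ≫ p = 𝟙 T)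
    (L : P.Modules) (hL : PicF.IsInvertible L) (hsL : Triv ((Scheme.Modules.pullback s).obj L)) :
    ∃ U : T.Opens, ∀ (T' : Scheme.{u}) (a : T' ⟶ T), Set.range a ⊆ (U : Set T) ↔
      Triv ((Scheme.Modules.pullback (pullback.fst p a)).obj L) := by
  obtain ⟨W, j, hj1, hj2, hj⟩ := S1431.result p hO L (isFinLocFree_of_isInvertible hL)
  have key : ∀ (T' : Scheme.{u}) (a : T' ⟶ T), (∃ g', g' ≫ j = a) ↔
      Triv ((Scheme.Modules.pullback (pullback.fst p a)).obj L) :=
    fun T' a => (hj T' a).trans (exists_iff_triv p s hs a L hsL)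
  have hopen : IsOpenImmersion j :=
    CubeOpen2.isOpenImmersion_of_lift j (fun z I₁ t ht htm hmt hg => (key _ _).mpr
      (triv_of_quot p hH L hL (T.presheaf.stalk z) (T.fromSpecStalk z) I₁ t ht htm hmt
        ((key _ _).mp hg)))
  refine ⟨j.opensRange, fun T' a => ?_⟩
  rw [← key]
  constructor
  · intro h
    exact ⟨IsOpenImmersion.lift j a h, IsOpenImmersion.lift_fac j a h⟩
  · rintro ⟨g', rfl⟩
    rintro _ ⟨x, rfl⟩
    exact ⟨g' x, rfl⟩

end Groth.Agent.Etdl.H429.Locus
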