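import Groth.Agent.Etdl.H429.FieldCase
import Groth.Agent.Sga1.DescHom
import Groth.Agent.PerfA.QCohSerre
import Groth.Agent.S0032

/-!
# Rigidity: morphisms from cohomologically trivial proper schemes to group schemes
-/

set_option autoImplicit false
universe u

open CategoryTheory Limits MonoidalCategory CartesianMonoidalCategory AlgebraicGeometry
open scoped MonObj
open Groth.Agent.Etdl.H429.Univ

namespace Groth.Agent.Etdl.H429.Main

/-- `H¹` of the structure sheaf from vanishing of `R¹ f_*` over affine bases. -/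
lemma fibH1_of_isZero {X S : Scheme.{u}} (f : X ⟶ S) [QuasiCompact f] [QuasiSeparated f]
    (h1 : ∀ (S' : Scheme.{u}) (g : S' ⟶ S),
      IsZero ((Coh.RpushAb (pullback.snd f g) 1).obj
        (Coh.toAb (Coh.structureModule (pullback f g))))) : FibH1 f := by
  intro κ _ g
  refine ⟨pullback f g, pullback.fst f g, pullback.snd f g, .of_hasPullback f g, ?_⟩
  have hq : Coh.IsQCoh (Coh.structureModule (pullback f g)) := PerfA.QCohSerre.isQCoh_unit _
  obtain ⟨e⟩ := Groth.Agent.S0032.result (pullback.snd f g) (Coh.structureModule (pullback f g)) 1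
  have h2 : IsZero (((Coh.RpushAb (pullback.snd f g) 1).obj
      (Coh.toAb (Coh.structureModule (pullback f g)))).obj.obj (Opposite.op ⊤)) :=
    ((sheafToPresheaf _ _ ⋙ (evaluation _ _).obj (Opposite.op ⊤)).map_isZero (h1 _ g))
  have h3 := AddCommGrpCat.subsingleton_of_isZero h2
  exact e.toEquiv.subsingleton

lemma surjective_of_univO {X S : Scheme.{u}} (f : X ⟶ S) [UniversallyClosed f]
    (h : ∀ V : S.Opens, IsIso (f.app V)) : Function.Surjective f := by
  have hcl : IsClosed (Set.range f) := f.isClosedMap.isClosed_range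
  let V : S.Opens := ⟨(Set.range f)ᶜ, hcl.isOpen_compl⟩
  have h1 : f ⁻¹ᵁ V = ⊥ := by
    ext x
    exact ⟨fun hx => hx ⟨x, rfl⟩, fun hx => hx.elim⟩
  have h2 : Subsingleton Γ(X, f ⁻¹ᵁ V) := by rw [h1]; infer_instance
  have h3 : Function.Bijective (f.app V).hom := (ConcreteCategory.isIso_iff_bijective _).mp (h V)
  have h4 : (1 : Γ(S, V)) = 0 := h3.1 (Subsingleton.elim _ _)
  have h5 := congrArg (fun a => S.basicOpen a) h4
  rw [S.basicOpen_zero, S.basicOpen_one] at h5
  rw [← Set.range_eq_univ, ← Set.compl_empty_iff]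
  exact congrArg (fun V : S.Opens => (V : Set S)) h5

theorem const_on_fibres {X S : Scheme.{u}} (f : X ⟶ S) [IsProper f] (hO : UnivO f) (hH : FibH1 f)
    (G : Over S) [GrpObj G] [LocallyOfFiniteType G.hom] [QuasiCompact G.hom]
    (φ : X ⟶ G.left) (hφ : φ ≫ G.hom = f) (x y : X) (hxy : f x = f y) : φ x = φ y := by
  let K := AlgebraicClosure (S.residueField (f x))
  let b : Spec (CommRingCat.of K) ⟶ S :=
    Spec.map (CommRingCat.ofHom (algebraMap (S.residueField (f x)) K)) ≫ S.fromSpecResidueField (f x)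
  have hb : ∀ z, b z = f x := fun z => by
    rw [Scheme.Hom.comp_apply, Scheme.fromSpecResidueField_apply]
  let G' := (Over.pullback b).obj G
  have hft : LocallyOfFiniteType G'.hom := by
    change LocallyOfFiniteType (Limits.pullback.snd G.hom b)
    infer_instance
  have hqc : QuasiCompact G'.hom := by
    change QuasiCompact (Limits.pullback.snd G.hom b)
    infer_instance
  let _ : GrpObj G' := Functor.grpObjObj
  let X' : Over (Spec (CommRingCat.of K)) := Over.mk (pullback.snd f b)
  have hpb : IsPullback (pullback.fst f b) X'.hom f b := IsPullback.of_hasPullback f b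
  have hpr : IsProper X'.hom := by
    change IsProper (pullback.snd f b)
    infer_instance
  let ψ : X' ⟶ G' := Over.homMk (pullback.lift (pullback.fst f b ≫ φ) (pullback.snd f b) (by
    rw [Category.assoc, hφ, pullback.condition])) (pullback.lift_snd _ _ _)
  obtain ⟨c, hc⟩ := FieldCase.exists_const X' G' (hO.baseChange hpb) (hH.baseChange hpb) ψ
  have key : pullback.fst f b ≫ φ = pullback.snd f b ≫ c.left ≫ pullback.fst G.hom b := by
    have h1 : ψ.left ≫ pullback.fst G.hom b = pullback.fst f b ≫ φ := pullback.lift_fst _ _ _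
    rw [← h1, hc]
    rfl
  let pt : Spec (CommRingCat.of K) := IsLocalRing.closedPoint K
  have hfib : ∀ z : X, f z = f x → φ z = (c.left ≫ pullback.fst G.hom b) pt := by
    intro z hz
    obtain ⟨w, hw1, hw2⟩ := Scheme.Pullback.exists_preimage_pullback z pt (f := f) (g := b)
      (by rw [hz, hb])
    rw [← hw1, ← Scheme.Hom.comp_apply, key, Scheme.Hom.comp_apply, hw2]
  rw [hfib x rfl, hfib y hxy.symm]

theorem main {X S : Scheme.{u}} (f : X ⟶ S) [IsProper f] (hO : UnivO f) (hH : FibH1 f)
    (G : Over S) [GrpObj G] [LocallyOfFiniteType G.hom] [QuasiCompact G.hom]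
    (φ : X ⟶ G.left) (hφ : φ ≫ G.hom = f) :
    ∃ σ : S ⟶ G.left, σ ≫ G.hom = 𝟙 S ∧ φ = f ≫ σ := by
  have hsurj : Function.Surjective f := surjective_of_univO f hO.app
  have hquot : Topology.IsQuotientMap f := f.isClosedMap.isQuotientMap f.continuous hsurj
  have hbij : ∀ V : S.Opens, Function.Bijective (f.app V).hom := fun V =>
    (ConcreteCategory.isIso_iff_bijective _).mp (hO.app V)
  obtain ⟨σ, hσ, -⟩ := Groth.Agent.Sga1.DescHom.existsUnique_desc f φ hquot (fun V => (hbij V).1)
    (const_on_fibres f hO hH G φ hφ) (fun W V e a => (hbij V).2 _)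
  refine ⟨σ, ?_, hσ.symm⟩
  refine Groth.Agent.Sga1.DescHom.hom_ext_of_surjective_injective f hsurj (fun V => (hbij V).1) ?_
  rw [← Category.assoc, hσ, hφ, Category.comp_id]

end Groth.Agent.Etdl.H429.Main
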