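import Groth.Agent.Etdl.H429.Locus
import Mathlib.AlgebraicGeometry.AlgClosed.Basic
import Mathlib.CategoryTheory.Monoidal.Cartesian.Over

/-!
# `Pic (X × T) = Pic X × Pic T` for `T` connected, `X` proper with `H⁰(O) = k`, `H¹(O) = 0`

Over an algebraically closed field.
-/

set_option autoImplicit false
universe u

open CategoryTheory Limits MonoidalCategory CartesianMonoidalCategory AlgebraicGeometry
open Groth.Agent.Grpsch.PicGrp Groth.Agent.Grpsch.CubeData Groth.Agent.Etdl.H429.Univ

namespace Groth.Agent.Etdl.H429.PicConn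

variable {K : Type u} [Field K]

/-- pullback of a class along a point with values in `T`. -/
noncomputable abbrev pl {T A : Over (Spec (CommRingCat.of K))} (a : T ⟶ A) : Pic A.left →* Pic T.left :=
  pull a.left

theorem pl_comp {T T' A : Over (Spec (CommRingCat.of K))} (f : T' ⟶ T) (a : T ⟶ A) (L : Pic A.left) :
    pl (f ≫ a) L = pl f (pl a L) := by
  unfold pl
  rw [Over.comp_left, pull_comp]

theorem pl_id {A : Over (Spec (CommRingCat.of K))} (L : Pic A.left) : pl (𝟙 A) L = L := pull_id L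

theorem pl_const {T A : Over (Spec (CommRingCat.of K))}
    (x : 𝟙_ (Over (Spec (CommRingCat.of K))) ⟶ A) (L : Pic A.left) : pl (toUnit T ≫ x) L = 1 := by
  rw [pl_comp]
  have : pl x L = 1 := pic_spec_local K _
  rw [this, map_one]

lemma mk_eq_one_iff_triv {X : Scheme.{u}} {L : X.Modules} (hL : PicF.IsInvertible L) :
    mk L hL = 1 ↔ Triv L := mk_eq_one_iff hL

lemma pull_eq_one_iff {X Y : Scheme.{u}} (f : X ⟶ Y) {L : Y.Modules} (hL : PicF.IsInvertible L) :
    pull f (mk L hL) = 1 ↔ Triv ((Scheme.Modules.pullback f).obj L) := by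
  rw [pull_mk, mk_eq_one_iff_triv]

lemma pull_injective_of_isIso {X Y : Scheme.{u}} (f : X ⟶ Y) [IsIso f] (c : Pic Y)
    (h : pull f c = 1) : c = 1 := by
  have h1 : pull (inv f) (pull f c) = 1 := by rw [h, map_one]
  rwa [← pull_comp, IsIso.inv_hom_id, pull_id] at h1

variable (X T : Over (Spec (CommRingCat.of K)))

/-- `x ↦ (x, t)` -/
noncomputable abbrev α (t : 𝟙_ (Over (Spec (CommRingCat.of K))) ⟶ T) : X ⟶ X ⊗ T :=
  lift (𝟙 X) (toUnit X ≫ t)

/-- `t ↦ (x, t)` -/
noncomputable abbrev β (x : 𝟙_ (Over (Spec (CommRingCat.of K))) ⟶ X) : T ⟶ X ⊗ T :=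
  lift (toUnit T ≫ x) (𝟙 T)

lemma isPullback_prod : IsPullback (fst X T).left (snd X T).left X.hom T.hom :=
  IsPullback.of_hasPullback X.hom T.hom

lemma isPullback_α (t : 𝟙_ (Over (Spec (CommRingCat.of K))) ⟶ T) :
    IsPullback (α X T t).left X.hom (snd X T).left t.left := by
  have h1 : (α X T t).left ≫ (fst X T).left = 𝟙 X.left := by
    rw [← Over.comp_left, lift_fst]; rfl
  have h2 : t.left ≫ T.hom = 𝟙 _ := Over.w t
  refine IsPullback.of_right ?_ ?_ (isPullback_prod X T)
  · rw [h1, h2]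
    exact IsPullback.id_horiz X.hom
  · rw [← Over.comp_left, lift_snd, Over.comp_left]
    rfl

/-- The locus of points `t` such that `Λ|_{X × t} ≅ Λ|_{X × t₁}`. -/
theorem exists_locus [IsProper X.hom] [LocallyOfFinitePresentation X.hom] (hO : UnivO X.hom)
    (hH : FibH1 X.hom) (x : 𝟙_ (Over (Spec (CommRingCat.of K))) ⟶ X)
    (Λ : Pic (X ⊗ T).left) (hΛ : pl (β X T x) Λ = 1)
    (t₁ : 𝟙_ (Over (Spec (CommRingCat.of K))) ⟶ T) :
    ∃ U : T.left.Opens, (∀ t : 𝟙_ (Over (Spec (CommRingCat.of K))) ⟶ T,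
      Set.range t.left ⊆ (U : Set T.left) ↔ pl (α X T t) Λ = pl (α X T t₁) Λ) ∧
      (U = ⊤ → Λ = pl (fst X T) (pl (α X T t₁) Λ)) := by
  obtain ⟨L, hL, hLΛ⟩ := exists_mk (Λ * (pl (fst X T) (pl (α X T t₁) Λ))⁻¹)
  have hflat : Flat X.hom := inferInstance
  have hp1 : Flat (snd X T).left := MorphismProperty.of_isPullback (isPullback_prod X T) hflat
  have hp2 : IsProper (snd X T).left :=
    MorphismProperty.of_isPullback (isPullback_prod X T) ‹IsProper X.hom›
  have hp3 : LocallyOfFinitePresentation (snd X T).left :=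
    MorphismProperty.of_isPullback (isPullback_prod X T) ‹LocallyOfFinitePresentation X.hom›
  have hs : (β X T x).left ≫ (snd X T).left = 𝟙 T.left := by
    rw [← Over.comp_left, lift_snd]; rfl
  have hsL : Triv ((Scheme.Modules.pullback (β X T x).left).obj L) := by
    rw [← pull_eq_one_iff _ hL, ← hLΛ, map_mul, map_inv]
    change pl (β X T x) Λ * (pl (β X T x) (pl (fst X T) (pl (α X T t₁) Λ)))⁻¹ = 1
    rw [hΛ, ← pl_comp, lift_fst, pl_const, inv_one, one_mul]
  obtain ⟨U, hU⟩ := Locus.exists_open (snd X T).left (hO.baseChange (isPullback_prod X T))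
    (hH.baseChange (isPullback_prod X T)) (β X T x).left hs L hL hsL
  refine ⟨U, fun t => ?_, fun htop => ?_⟩
  · rw [hU, ← pull_eq_one_iff _ hL, ← hLΛ]
    have hpb := isPullback_α X T t
    have h1 : pull (pullback.fst (snd X T).left t.left) (Λ * (pl (fst X T) (pl (α X T t₁) Λ))⁻¹) = 1 ↔
        pl (α X T t) (Λ * (pl (fst X T) (pl (α X T t₁) Λ))⁻¹) = 1 := by
      have h2 : hpb.isoPullback.hom ≫ pullback.fst (snd X T).left t.left = (α X T t).left :=
        hpb.isoPullback_hom_fst
      constructor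
      · intro h
        have h3 := congrArg (pull hpb.isoPullback.hom) h
        rw [← pull_comp, h2, map_one] at h3
        exact h3
      · intro h
        apply pull_injective_of_isIso hpb.isoPullback.hom
        rw [← pull_comp, h2]
        exact h
    rw [h1, map_mul, map_inv, ← pl_comp, lift_fst, pl_id, mul_inv_eq_one]
  · have h1 : Triv L := by
      refine triv_of_pullback_iso (pullback.fst (snd X T).left (𝟙 T.left)) ?_
      rw [← hU, htop]
      exact fun _ _ => trivial
    rw [← mk_eq_one_iff_triv hL, ← hLΛ, mul_inv_eq_one] at h1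
    exact h1

end Groth.Agent.Etdl.H429.PicConn
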