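import Groth.Agent.Etdl.H429.PicConn

/-!
# `Pic (X × T) = Pic X × Pic T`

Over an algebraically closed field, `T` connected and locally of finite type, `X` proper with
`H⁰(O) = k` and `H¹(O) = 0` universally.
-/

set_option autoImplicit false
universe u

open CategoryTheory Limits MonoidalCategory CartesianMonoidalCategory AlgebraicGeometry
open Groth.Agent.Grpsch.PicGrp Groth.Agent.Grpsch.CubeData Groth.Agent.Etdl.H429.Univ

namespace Groth.Agent.Etdl.H429.PicConn

variable {K : Type u} [Field K]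

section Top

variable [IsAlgClosed K] (T : Over (Spec (CommRingCat.of K))) [LocallyOfFiniteType T.hom]

/-- A closed point comes from a `K`-point. -/
lemma exists_point (z : T.left) (hz : IsClosed ({z} : Set T.left)) :
    ∃ t : 𝟙_ (Over (Spec (CommRingCat.of K))) ⟶ T, Set.range t.left = {z} := by
  refine ⟨Over.homMk (pointOfClosedPoint T.hom z hz) (pointOfClosedPoint_comp T.hom z hz), ?_⟩
  ext y
  constructor
  · rintro ⟨a, rfl⟩
    exact pointOfClosedPoint_apply T.hom z hz a
  · rintro rfl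
    exact ⟨IsLocalRing.closedPoint K, pointOfClosedPoint_apply T.hom y hz _⟩

lemma exists_point_of_nonempty (V : T.left.Opens) (hV : (V : Set T.left).Nonempty) :
    ∃ t : 𝟙_ (Over (Spec (CommRingCat.of K))) ⟶ T, Set.range t.left ⊆ (V : Set T.left) := by
  have : JacobsonSpace T.left := LocallyOfFiniteType.jacobsonSpace T.hom
  obtain ⟨z, hzV, hz⟩ := nonempty_inter_closedPoints hV V.isOpen.isLocallyClosed
  obtain ⟨t, ht⟩ := exists_point T z hz
  exact ⟨t, by rw [ht]; exact Set.singleton_subset_iff.mpr hzV⟩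

/-- An open cover indexed by `K`-points whose members are "equal or disjoint" on `K`-points is
trivial if the space is connected. -/
theorem eq_top_of_partition [PreconnectedSpace T.left]
    (U : (𝟙_ (Over (Spec (CommRingCat.of K))) ⟶ T) → T.left.Opens) {R : Type*}
    (c : (𝟙_ (Over (Spec (CommRingCat.of K))) ⟶ T) → R)
    (hU : ∀ t₁ t, Set.range t.left ⊆ (U t₁ : Set T.left) ↔ c t = c t₁)
    (t₀ : 𝟙_ (Over (Spec (CommRingCat.of K))) ⟶ T) : U t₀ = ⊤ := by
  have : JacobsonSpace T.left := LocallyOfFiniteType.jacobsonSpace T.hom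
  let C : T.left.Opens := ⨆ t : {t // c t ≠ c t₀}, U t.1
  have h1 : (U t₀ : Set T.left)ᶜ = (C : Set T.left) := by
    apply Set.Subset.antisymm
    · intro z hz
      by_contra hzC
      have hne : ((U t₀ ⊔ C : T.left.Opens) : Set T.left)ᶜ.Nonempty := by
        refine ⟨z, ?_⟩
        rintro (h | h)
        · exact hz h
        · exact hzC h
      obtain ⟨y, hy, hyc⟩ := nonempty_inter_closedPoints hne
        ((U t₀ ⊔ C : T.left.Opens).isOpen.isClosed_compl.isLocallyClosed)
      obtain ⟨t, ht⟩ := exists_point T y hyc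
      by_cases hc : c t = c t₀
      · have h2 := (hU t₀ t).mpr hc
        rw [ht] at h2
        exact hy (Or.inl (h2 rfl))
      · have h2 := (hU t t).mpr rfl
        rw [ht] at h2
        exact hy (Or.inr (TopologicalSpace.Opens.mem_iSup.mpr ⟨⟨t, hc⟩, h2 rfl⟩))
    · intro z hz hz'
      obtain ⟨⟨t₁, ht₁⟩, hzt⟩ := TopologicalSpace.Opens.mem_iSup.mp hz
      obtain ⟨t, ht⟩ := exists_point_of_nonempty T (U t₀ ⊓ U t₁) ⟨z, hz', hzt⟩
      have h2 := (hU t₀ t).mp fun y hy => (ht hy).1
      have h3 := (hU t₁ t).mp fun y hy => (ht hy).2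
      exact ht₁ (h3.symm.trans h2)
  have hclosed : IsClosed (U t₀ : Set T.left) := by
    rw [← isOpen_compl_iff, h1]
    exact C.isOpen
  have hne : (U t₀ : Set T.left).Nonempty := by
    have h2 := (hU t₀ t₀).mpr rfl
    exact ⟨t₀.left (IsLocalRing.closedPoint K), h2 ⟨_, rfl⟩⟩
  have h3 := IsClopen.eq_univ ⟨hclosed, (U t₀).isOpen⟩ hne
  exact TopologicalSpace.Opens.ext h3

end Top

variable [IsAlgClosed K] (X T : Over (Spec (CommRingCat.of K))) [IsProper X.hom]
  [LocallyOfFinitePresentation X.hom]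
  [LocallyOfFiniteType T.hom] [PreconnectedSpace T.left]

theorem eq_of_rigid (hO : UnivO X.hom)
    (hH : FibH1 X.hom) (x : 𝟙_ (Over (Spec (CommRingCat.of K))) ⟶ X)
    (t₀ : 𝟙_ (Over (Spec (CommRingCat.of K))) ⟶ T)
    (Λ : Pic (X ⊗ T).left) (hΛ : pl (β X T x) Λ = 1) :
    Λ = pl (fst X T) (pl (α X T t₀) Λ) := by
  choose U hU hU' using exists_locus X T hO hH x Λ hΛ
  exact hU' t₀ (eq_top_of_partition T U (fun t => pl (α X T t) Λ) hU t₀)

/-- `Pic (X × T) = Pic X × Pic T`. -/
theorem eq_mul (hO : UnivO X.hom)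
    (hH : FibH1 X.hom) (x : 𝟙_ (Over (Spec (CommRingCat.of K))) ⟶ X)
    (t₀ : 𝟙_ (Over (Spec (CommRingCat.of K))) ⟶ T) (A : Pic (X ⊗ T).left) :
    A = pl (fst X T) (pl (α X T t₀) A) * pl (snd X T) (pl (β X T x) A) := by
  have h1 : pl (β X T x) (A * (pl (snd X T) (pl (β X T x) A))⁻¹) = 1 := by
    rw [map_mul, map_inv, ← pl_comp, lift_snd, pl_id, mul_inv_cancel]
  have h2 := eq_of_rigid X T hO hH x t₀ _ h1
  have h3 : pl (α X T t₀) (pl (snd X T) (pl (β X T x) A)) = 1 := by
    rw [← pl_comp (α X T t₀), lift_snd, pl_const]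
  rw [map_mul (pl (α X T t₀)), map_inv (pl (α X T t₀)), h3, inv_one,
    mul_one, mul_inv_eq_iff_eq_mul] at h2
  exact h2

end Groth.Agent.Etdl.H429.PicConn
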