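import Groth.Prelude.Def_Coh
import Mathlib.AlgebraicGeometry.Pullbacks
import Mathlib.AlgebraicGeometry.Morphisms.Basic

/-!
# Universal `f_* O = O` and vanishing of `H¹` of the structure sheaf on field-valued fibres

Two predicates on a morphism, both stable under base change.
-/

set_option autoImplicit false
universe u

open AlgebraicGeometry CategoryTheory Limits

namespace Groth.Agent.Etdl.H429.Univ

/-- `O_{T'} → p'_* O_{P'}` is an isomorphism after every base change. -/
def UnivO {P T : Scheme.{u}} (p : P ⟶ T) : Prop :=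
  ∀ (T' : Scheme.{u}) (g : T' ⟶ T) (V : T'.Opens), IsIso ((pullback.snd p g).app V)

/-- `H¹` of the structure sheaf vanishes on all fibres over spectra of fields. -/
def FibH1 {P T : Scheme.{u}} (p : P ⟶ T) : Prop :=
  ∀ (κ : CommRingCat.{u}) (_ : IsField κ) (g : Spec κ ⟶ T),
    ∃ (Z : Scheme.{u}) (i : Z ⟶ P) (z : Z ⟶ Spec κ), IsPullback i z p g ∧
      Subsingleton (Coh.HH Z (Coh.structureModule Z) 1)

variable {P T P' T' : Scheme.{u}} {p : P ⟶ T} {p' : P' ⟶ T'} {q : P' ⟶ P} {b : T' ⟶ T}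

lemma isIso_comp_app {X Y Z : Scheme.{u}} (e : X ⟶ Y) [IsIso e] (f : Y ⟶ Z) (V : Z.Opens)
    (h : IsIso (f.app V)) : IsIso ((e ≫ f).app V) := by
  have h1 : IsIso (e.app (f ⁻¹ᵁ V)) := inferInstance
  rw [Scheme.Hom.comp_app]
  exact @IsIso.comp_isIso _ _ _ _ _ _ _ h h1

theorem UnivO.app_of_isPullback (h : UnivO p) (H : IsPullback q p' p b) (V : T'.Opens) :
    IsIso (p'.app V) := by
  have h1 : H.isoPullback.hom ≫ pullback.snd p b = p' := H.isoPullback_hom_snd
  have h2 := isIso_comp_app H.isoPullback.hom (pullback.snd p b) V (h T' b V)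
  rw [h1] at h2
  exact h2

theorem UnivO.app (h : UnivO p) (V : T.Opens) : IsIso (p.app V) :=
  h.app_of_isPullback (IsPullback.id_horiz p) V

theorem UnivO.baseChange (h : UnivO p) (H : IsPullback q p' p b) : UnivO p' := by
  intro T'' g V
  have h1 : IsPullback (pullback.fst p' g ≫ q) (pullback.snd p' g) p (g ≫ b) :=
    (IsPullback.of_hasPullback p' g).paste_horiz H
  exact h.app_of_isPullback h1 V

theorem FibH1.baseChange (h : FibH1 p) (H : IsPullback q p' p b) : FibH1 p' := by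
  intro κ hκ g
  obtain ⟨Z, i, z, hZ, hH⟩ := h κ hκ (g ≫ b)
  have hw : i ≫ p = (z ≫ g) ≫ b := by rw [hZ.w, Category.assoc]
  refine ⟨Z, H.lift i (z ≫ g) hw, z, ?_, hH⟩
  refine IsPullback.of_right ?_ (H.lift_snd _ _ _) H
  rw [H.lift_fst]
  exact hZ

end Groth.Agent.Etdl.H429.Univ
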