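import Groth.Agent.Grpsch.CubeData
import Groth.Agent.Etdl.H429.CechH1
import Groth.Agent.Etdl.H429.Univ

/-!
# Deforming trivial invertible modules along small extensions when `H¹(O) = 0` on the closed fibre
-/

set_option autoImplicit false
universe u v

open AlgebraicGeometry CategoryTheory Limits TensorProduct IsLocalRing
open Groth.Agent.Fdesc Groth.Agent.Fdesc.LocGen

namespace Groth.Agent.Etdl.H429.Small

open Groth.Agent.Grpsch Groth.Agent.Grpsch.CubeSec Groth.Agent.Grpsch.CubeLift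
  Groth.Agent.Grpsch.CubeData

variable {S P S' P' Z K : Scheme.{u}} {p : P ⟶ S}

/-- On affine opens, being killed by `ε` is the same as vanishing on the closed fibre. -/
lemma smul_eq_zero_iff [IsAffine S] [IsLocalRing Γ(S, ⊤)] [Flat p] (ε : Γ(S, ⊤))
    (hε : ∀ a : Γ(S, ⊤), a * ε = 0 ↔ a ∈ maximalIdeal Γ(S, ⊤)) {k : K ⟶ S} [IsClosedImmersion k]
    (hk : RingHom.ker k.appTop.hom = maximalIdeal Γ(S, ⊤)) {j : Z ⟶ P} {z : Z ⟶ K}
    (HZ : IsPullback j z p k) {W : P.Opens} (hW : IsAffineOpen W) (x : Sec p W) :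
    ε • x = 0 ↔ (j.app W).hom ((toSec p W).symm x) = 0 := by
  have := flat_sec p hW
  rw [CubeAlg.smul_eq_zero_iff ε hε, ← RingHom.mem_ker]
  obtain ⟨-, -, h3⟩ := Flat2D.ThickRed.app_of_isPullback HZ (W := ⊤) (isAffineOpen_top S) hW le_top
  have h4 : RingHom.ker (k.app ⊤).hom = maximalIdeal Γ(S, ⊤) := hk
  rw [h3, h4]
  have h5 : (maximalIdeal Γ(S, ⊤) • (⊤ : Submodule Γ(S, ⊤) (Sec p W)) : Submodule Γ(S, ⊤) (Sec p W)) =
      (Ideal.map (algebraMap Γ(S, ⊤) (Sec p W)) (maximalIdeal Γ(S, ⊤))).restrictScalars Γ(S, ⊤) :=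
    Ideal.smul_top_eq_map _
  rw [h5]
  rfl

/-- **Key lemma**: if `H¹(O) = 0` on the closed fibre, triviality lifts along small extensions. -/
theorem deform [IsAffine S] [IsLocalRing Γ(S, ⊤)] [Flat p] [IsSeparated p]
    {g : S' ⟶ S} [IsClosedImmersion g] [Surjective g] {i : P' ⟶ P}
    {p' : P' ⟶ S'} (HP : IsPullback i p' p g) (ε : Γ(S, ⊤))
    (hε : ∀ a : Γ(S, ⊤), a * ε = 0 ↔ a ∈ maximalIdeal Γ(S, ⊤))
    (hεm : ε ∈ maximalIdeal Γ(S, ⊤)) (hg : RingHom.ker g.appTop.hom = Ideal.span {ε})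
    {k : K ⟶ S} [IsClosedImmersion k]
    (hk : RingHom.ker k.appTop.hom = maximalIdeal Γ(S, ⊤)) {j : Z ⟶ P} {z : Z ⟶ K}
    (HZ : IsPullback j z p k) (hZ : Subsingleton (Coh.HH Z (Coh.structureModule Z) 1))
    {L : P.Modules} (hL : PicF.IsInvertible L)
    (hL' : Triv ((Scheme.Modules.pullback i).obj L)) : Triv L := by
  have hεε : ε * ε = 0 := (hε ε).mpr hεm
  have hclos : IsClosedImmersion i := MorphismProperty.of_isPullback HP.flip ‹IsClosedImmersion g›
  have hsurj : Surjective i := MorphismProperty.of_isPullback HP.flip ‹Surjective g›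
  have hclosj : IsClosedImmersion j := MorphismProperty.of_isPullback HZ.flip ‹IsClosedImmersion k›
  have hPs : P.IsSeparated := ⟨by rw [← terminal.comp_from p]; infer_instance⟩
  obtain ⟨ρ, hρ⟩ := triv_iff.mp hL'
  let V : P.affineOpens → P.Opens := fun a => a.1
  have hV : ∀ a, IsAffineOpen (V a) := fun a => a.2
  have hVV : ∀ a b, IsAffineOpen (V a ⊓ V b) := fun a b => (hV a).inf (hV b)
  have hVtop : ⨆ a, V a = ⊤ := iSup_affineOpens_eq_top P
  choose σ hσρ hσ using fun a => exists_lift i hL (hV a) (hρ.res (le_top : i ⁻¹ᵁ V a ≤ ⊤))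
  have hc' : ∀ a b : P.affineOpens, ∃ c : Sec p (V a ⊓ V b),
      LocGen.res L (inf_le_left : V a ⊓ V b ≤ V a) (σ a) =
        act p (1 + ε • c) (LocGen.res L (inf_le_right : V a ⊓ V b ≤ V b) (σ b)) := by
    intro a b
    refine exists_ratio i HP ε hg (hVV a b) ((hσ b).res _) ?_
    rw [← res_pullSec, ← res_pullSec, hσρ, hσρ, LocGen.res_res, LocGen.res_res]
  choose c hc using hc'
  -- the cocycle on the closed fibre
  let γ : ∀ a b : P.affineOpens, Γ(Z, j ⁻¹ᵁ V a ⊓ j ⁻¹ᵁ V b) :=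
    fun a b => (j.app (V a ⊓ V b)).hom ((toSec p _).symm (c a b))
  have hjres : ∀ {U W : P.Opens} (h : W ≤ U) (x : Sec p U),
      (j.app W).hom ((toSec p W).symm (CubeSec.res p h x)) =
        ores (j.preimage_mono h) ((j.app U).hom ((toSec p U).symm x)) := by
    intro U W h x
    exact congr(($(j.naturality (homOfLE h).op)).hom ((toSec p U).symm x))
  have hcoc : ∀ a b d : P.affineOpens,
      ores (inf_le_left : (j ⁻¹ᵁ V a ⊓ j ⁻¹ᵁ V b) ⊓ j ⁻¹ᵁ V d ≤ _) (γ a b) +
        ores (inf_le_inf_right _ inf_le_right :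
          (j ⁻¹ᵁ V a ⊓ j ⁻¹ᵁ V b) ⊓ j ⁻¹ᵁ V d ≤ j ⁻¹ᵁ V b ⊓ j ⁻¹ᵁ V d) (γ b d) =
        ores (inf_le_inf_right _ inf_le_left :
          (j ⁻¹ᵁ V a ⊓ j ⁻¹ᵁ V b) ⊓ j ⁻¹ᵁ V d ≤ j ⁻¹ᵁ V a ⊓ j ⁻¹ᵁ V d) (γ a d) := by
    intro a b d
    let T : P.Opens := (V a ⊓ V b) ⊓ V d
    have hT : IsAffineOpen T := (hVV a b).inf (hV d)
    have l1 : T ≤ V a ⊓ V b := inf_le_left
    have l2 : T ≤ V b ⊓ V d := inf_le_inf_right _ inf_le_right
    have l3 : T ≤ V a ⊓ V d := inf_le_inf_right _ inf_le_left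
    have e1 := congr(LocGen.res L l1 $(hc a b))
    have e2 := congr(LocGen.res L l2 $(hc b d))
    have e3 := congr(LocGen.res L l3 $(hc a d))
    rw [res_act, LocGen.res_res, LocGen.res_res] at e1 e2 e3
    have e4 : act p (CubeSec.res p l1 (1 + ε • c a b) * CubeSec.res p l2 (1 + ε • c b d))
        (LocGen.res L (l2.trans inf_le_right) (σ d)) =
        act p (CubeSec.res p l3 (1 + ε • c a d)) (LocGen.res L (l3.trans inf_le_right) (σ d)) := by
      rw [act_mul, ← e2, ← e1, ← e3]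
    have e5 := act_ext ((hσ d).res _) e4
    rw [map_add, map_add, map_add, map_one, map_one, map_one, map_smul, map_smul, map_smul] at e5
    have e6 : ε • (CubeSec.res p l1 (c a b) + CubeSec.res p l2 (c b d) - CubeSec.res p l3 (c a d)) = 0 := by
      have he : algebraMap Γ(S, ⊤) (Sec p T) ε * algebraMap Γ(S, ⊤) (Sec p T) ε = 0 := by
        rw [← map_mul, hεε, map_zero]
      simp only [Algebra.smul_def] at e5 ⊢
      linear_combination e5 - (CubeSec.res p l1 (c a b)) * (CubeSec.res p l2 (c b d)) * he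
    rw [smul_eq_zero_iff ε hε hk HZ hT, map_sub, map_add, map_sub, map_add, hjres, hjres, hjres,
      sub_eq_zero] at e6
    exact e6
  obtain ⟨β, hβ⟩ := CechH1.exists_cob hZ (fun a : P.affineOpens => j ⁻¹ᵁ V a)
    (by rw [← Scheme.Hom.preimage_iSup, hVtop]; rfl) γ (by
      intro a b d W ha hb hd
      have h1 := congr(ores (le_inf (le_inf ha hb) hd) $(hcoc a b d))
      rw [map_add, ores_ores, ores_ores, ores_ores] at h1
      exact h1)
  choose b' hb' using fun a => j.app_surjective (V a) (hV a) (β a)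
  let b : ∀ a, Sec p (V a) := fun a => toSec p (V a) (b' a)
  have hb : ∀ a d, ε • (c a d - (CubeSec.res p inf_le_left (b a) -
      CubeSec.res p inf_le_right (b d) : Sec p (V a ⊓ V d))) = 0 := by
    intro a d
    rw [smul_eq_zero_iff ε hε hk HZ (hVV a d), map_sub, map_sub, map_sub, map_sub, hjres, hjres]
    have h1 : (j.app (V a)).hom ((toSec p (V a)).symm (b a)) = β a := hb' a
    have h2 : (j.app (V d)).hom ((toSec p (V d)).symm (b d)) = β d := hb' d
    rw [h1, h2, sub_eq_zero]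
    exact hβ a d
  -- glue
  have hgen : ∀ a, IsGen (act p (1 - ε • b a) (σ a)) := by
    intro a
    refine isGen_act (hσ a) ?_
    rw [sub_eq_add_neg, ← smul_neg]
    exact CubeDeform.isUnit_one_add hεε _
  have hkey : ∀ a d : P.affineOpens,
      LocGen.res L (inf_le_left : V a ⊓ V d ≤ V a) (act p (1 - ε • b a) (σ a)) =
      LocGen.res L (inf_le_right : V a ⊓ V d ≤ V d) (act p (1 - ε • b d) (σ d)) := by
    intro a d
    have h1 := hc a d
    have h2 := hb a d
    rw [res_act, res_act, h1, ← act_mul]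
    congr 1
    rw [map_sub, map_sub, map_one, map_one, map_smul, map_smul]
    simp only [Algebra.smul_def] at h2 ⊢
    have he : algebraMap Γ(S, ⊤) (Sec p (V a ⊓ V d)) ε * algebraMap Γ(S, ⊤) (Sec p (V a ⊓ V d)) ε = 0 := by
      rw [← map_mul, hεε, map_zero]
    linear_combination h2 - (CubeSec.res p inf_le_left (b a) * c a d) * he
  obtain ⟨n, hn⟩ := res_glue L V (fun a => le_top) hVtop.ge
    (fun a => act p (1 - ε • b a) (σ a)) hkey
  exact triv_iff.mpr ⟨n, IsGen.of_cover V (fun a => le_top) hVtop.ge fun a => by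
    rw [hn a]; exact hgen a⟩

end Groth.Agent.Etdl.H429.Small
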